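import Groth.Prelude.Def_Frob
import Groth.Agent.EtFound.TopInvGlue
import Groth.Agent.EtFound.LiftEtale

/-! # Etale schemes over a thickening carry the lifts of compatible endomorphisms -/

universe u

open CategoryTheory CategoryTheory.Limits AlgebraicGeometry Opposite

namespace Groth.Agent.DefLiftW2

set_option backward.isDefEq.respectTransparency.types false

/-- An etale scheme over the reduced side of a thickening lifts with every endomorphism lying over an
endomorphism of the thickening. -/
theorem exists_etale_lift_endo {X Xl Y : Scheme.{u}} (i : X ⟶ Xl) [IsClosedImmersion i] [Surjective i]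
    (q : Y ⟶ X) [Etale q] (φX : X ⟶ X) (Fl : Xl ⟶ Xl) (hF : i ≫ Fl = φX ≫ i)
    (φY : Y ⟶ Y) (hφ : φY ≫ q = q ≫ φX) :
    ∃ (Yl : Scheme.{u}) (ql : Yl ⟶ Xl) (j : Y ⟶ Yl) (Gl : Yl ⟶ Yl),
      Etale ql ∧ IsPullback j q ql i ∧ j ≫ Gl = φY ≫ j := by
  have := EtFound.bc_full i
  have := EtFound.bc_faithful i
  obtain ⟨V, ⟨e'⟩⟩ := EtFound.essImage_of_local i (Scheme.Etale.mk q) fun x => by
    obtain ⟨V, h, hh, ho, hx⟩ := EtFound.exists_etale_lift i q x
    exact ⟨V, MorphismProperty.Over.homMk h hh, ho, hx⟩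
  have hql : Etale V.hom := V.prop
  let e : pullback V.hom i ≅ Y :=
    { hom := e'.hom.left
      inv := e'.inv.left
      hom_inv_id := congrArg (fun k => k.left) e'.hom_inv_id
      inv_hom_id := congrArg (fun k => k.left) e'.inv_hom_id }
  have heq : e.hom ≫ q = pullback.snd V.hom i := MorphismProperty.Over.w e'.hom
  let a := pullback.fst V.hom i
  have hsq : a ≫ V.hom = pullback.snd V.hom i ≫ i := pullback.condition
  let h0 : pullback V.hom i ⟶ pullback V.hom Fl :=
    pullback.lift (e.hom ≫ φY ≫ e.inv ≫ a) (a ≫ V.hom) (by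
      have h1 : e.inv ≫ a ≫ V.hom = q ≫ i := by
        rw [hsq, ← heq, Category.assoc, e.inv_hom_id_assoc]
      simp only [Category.assoc]
      rw [h1, ← Category.assoc φY q i, hφ, Category.assoc, ← hF, ← Category.assoc e.hom q, heq,
        ← Category.assoc, ← hsq, Category.assoc])
  have h0snd : h0 ≫ pullback.snd V.hom Fl = pullback.snd V.hom i ≫ i := (pullback.lift_snd _ _ _).trans hsq
  have : Etale (CategoryTheory.Over.mk (pullback.snd V.hom Fl)).hom :=
    inferInstanceAs (Etale (pullback.snd V.hom Fl))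
  obtain ⟨φ, hφ'⟩ := EtFound.surjective_pullback_map i (CategoryTheory.Over.mk (pullback.snd V.hom Fl))
    (CategoryTheory.Over.mk V.hom)
    (CategoryTheory.Over.homMk (pullback.lift h0 (pullback.snd V.hom i) h0snd) (pullback.lift_snd _ _ _))
  refine ⟨V.left, V.hom, e.inv ≫ a, φ.left ≫ pullback.fst V.hom Fl, hql, ?_, ?_⟩
  · refine (IsPullback.of_hasPullback V.hom i).of_iso e (Iso.refl _) (Iso.refl _) (Iso.refl _) ?_ ?_ ?_ ?_
    · rw [Iso.refl_hom, Category.comp_id, e.hom_inv_id_assoc]
    · rw [Iso.refl_hom, Category.comp_id, heq]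
    · exact (Category.comp_id _).trans (Category.id_comp _).symm
    · exact (Category.comp_id _).trans (Category.id_comp _).symm
  · have h2 : a ≫ φ.left = h0 := by
      have h3 := congrArg (fun k => k.left ≫ pullback.fst (pullback.snd V.hom Fl) i) hφ'
      refine ((pullback.lift_fst _ _ _).symm.trans h3).trans ?_
      exact pullback.lift_fst _ _ _
    rw [Category.assoc, ← Category.assoc a, h2, pullback.lift_fst, e.inv_hom_id_assoc]

end Groth.Agent.DefLiftW2
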